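import Mathlib
import Groth.Agent.Lib.Lead.QC.QAffAmple
import Groth.Agent.Lib.Lead.QC.AmpleFinite
import Groth.Agent.Lib.Lead.QC.AmpleBase

/-!
# Sections of an invertible module on an affine scheme not vanishing at finitely many points
-/

set_option autoImplicit false
universe u
open CategoryTheory CategoryTheory.Limits AlgebraicGeometry TopologicalSpace Opposite

namespace Groth.Agent.H5.FinSec

open Groth.Agent.LD Groth.Agent.LD.QC

variable {Y : Scheme.{u}}

/-- On an affine scheme: a section whose non-vanishing locus contains `z` and misses the closed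
set `C`. -/
lemma exists_section_mem_not_mem [IsAffine Y] (E : Y.Modules) (hE : PicF.IsInvertible E) (z : Y)
    (C : Set Y) (hC : IsClosed C) (hz : z ∉ C) :
    ∃ τ : unitMod Y ⟶ E, z ∈ CohB1.genLocus E τ ∧ ∀ y ∈ C, y ∉ CohB1.genLocus E τ := by
  let W : Y.Opens := ⟨Cᶜ, hC.isOpen_compl⟩
  obtain ⟨U, e, -, hzU, hUW, he⟩ := exists_affine_basis E hE z W hz
  obtain ⟨r, hrU, hzr⟩ := (isAffineOpen_top Y).exists_basicOpen_le (V := U) ⟨z, hzU⟩ trivial
  obtain ⟨σ, hσ⟩ := exists_section_genLocus_eq_basicOpen E hE r e he hrU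
  refine ⟨σ, by rw [hσ]; exact hzr, fun y hy hy' => ?_⟩
  rw [hσ] at hy'
  exact hUW (hrU hy') hy

/-- On an affine scheme: a section of an invertible module not vanishing at finitely many closed
points. -/
theorem exists_section_of_finite_closed [IsAffine Y] (E : Y.Modules) (hE : PicF.IsInvertible E)
    (Z : Finset Y) (hZ : ∀ z ∈ Z, IsClosed ({z} : Set Y)) :
    ∃ t : unitMod Y ⟶ E, ∀ z ∈ Z, z ∈ CohB1.genLocus E t := by
  classical
  induction Z using Finset.induction_on with
  | empty => exact ⟨0, by simp⟩
  | insert z Z' hzZ' ih =>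
    obtain ⟨t', ht'⟩ := ih (fun w hw => hZ w (Finset.mem_insert_of_mem hw))
    by_cases hz : z ∈ CohB1.genLocus E t'
    · refine ⟨t', fun w hw => ?_⟩
      rcases Finset.mem_insert.mp hw with rfl | hw
      · exact hz
      · exact ht' w hw
    · have hC : IsClosed ((Z' : Finset Y) : Set Y) := by
        have : ((Z' : Finset Y) : Set Y) = ⋃ w ∈ Z', ({w} : Set Y) := by
          ext y; simp
        rw [this]
        exact Set.Finite.isClosed_biUnion (Finset.finite_toSet _)
          (fun w hw => hZ w (Finset.mem_insert_of_mem hw))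
      obtain ⟨τ, hτz, hτC⟩ := exists_section_mem_not_mem E hE z _ hC (by simpa using hzZ')
      refine ⟨τ + t', fun w hw => ?_⟩
      rcases Finset.mem_insert.mp hw with rfl | hw
      · exact mem_genLocus_add E hE τ t' _ hτz hz
      · rw [add_comm]
        exact mem_genLocus_add E hE t' τ w (ht' w hw) (hτC w (by simpa using hw))

/-- On an affine scheme: a section of an invertible module not vanishing at finitely many
points. -/
theorem exists_section_of_finite [IsAffine Y] (E : Y.Modules) (hE : PicF.IsInvertible E)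
    (Z : Finset Y) : ∃ t : unitMod Y ⟶ E, ∀ z ∈ Z, z ∈ CohB1.genLocus E t := by
  classical
  have hc : ∀ z : Y, ∃ c : Y, z ⤳ c ∧ IsClosed ({c} : Set Y) := by
    intro z
    obtain ⟨c, hc, hcl⟩ := (isClosed_closure (s := ({z} : Set Y))).exists_closed_singleton
      ⟨z, subset_closure rfl⟩
    exact ⟨c, specializes_iff_mem_closure.mpr hc, hcl⟩
  choose c hc1 hc2 using hc
  obtain ⟨t, ht⟩ := exists_section_of_finite_closed E hE (Z.image c) (by
    intro w hw
    obtain ⟨z, -, rfl⟩ := Finset.mem_image.mp hw
    exact hc2 z)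
  refine ⟨t, fun z hz => ?_⟩
  exact (hc1 z).mem_open (CohB1.genLocus E t).2 (ht _ (Finset.mem_image_of_mem c hz))

end Groth.Agent.H5.FinSec
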