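import Mathlib
import Groth.Agent.Lib.Helper5.FinSec.A
import Groth.Agent.Lib.Lead.QC.AmpleFinite2
import Groth.Agent.Lib.Lead.QC.ClaimA
import Groth.Agent.Lib.Lead.QC.AmpleBasis
import Groth.Agent.Lib.Lead.QC.TensorDesc
import Groth.Agent.Lib.Lead.QC.RestrictOpen

/-!
# Twisted sections not vanishing at finitely many points (ample case)
-/

set_option autoImplicit false
universe u
open CategoryTheory CategoryTheory.Limits AlgebraicGeometry TopologicalSpace Opposite

namespace Groth.Agent.H5.FinSec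

open Groth.Agent.LD Groth.Agent.LD.QC

variable {X : Scheme.{u}}

/-- For an ample `L`, an invertible `E` and a finite set `Z` of points there is an `n > 0` such that
`E ⊗ L^{kn}` has, for every `k ≥ 1`, a global section not vanishing at any point of `Z`. -/
theorem exists_twisted_sections (L : X.Modules) (hL : CohB1.IsAmple L)
    (E : X.Modules) (hE : PicF.IsInvertible E) (Z : Finset X) :
    ∃ n : ℕ, 0 < n ∧ ∀ k : ℕ, 1 ≤ k →
      ∃ s : unitMod X ⟶ CohB1.tensorMod E (CohB1.tensorPow L (k * n)),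
        ∀ z ∈ Z, z ∈ CohB1.genLocus (CohB1.tensorMod E (CohB1.tensorPow L (k * n))) s := by
  classical
  haveI : X.IsSeparated := isSeparated_of_affine_genLocus L hL.1 hL.2.2
  haveI : CompactSpace X := hL.2.1
  haveI hLqc : L.IsQuasicoherent := qc_of_isInvertible L hL.1
  haveI hEqc : E.IsQuasicoherent := qc_of_isInvertible E hE
  obtain ⟨n₀, t, htZ, -, htaff⟩ :=
    exists_affine_genLocus_finset L hL _ Z rfl ⊤ (fun _ _ => trivial)
  have hA : PicF.IsInvertible (CohB1.tensorPow L (n₀ + 1)) := isInvertible_tensorPow hL.1 _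
  haveI hAqc : (CohB1.tensorPow L (n₀ + 1)).IsQuasicoherent := qc_of_isInvertible _ hA
  haveI : IsAffine (CohB1.genLocus (CohB1.tensorPow L (n₀ + 1)) t : Scheme.{u}) := htaff
  have hEW := isInvertible_restrict (CohB1.genLocus (CohB1.tensorPow L (n₀ + 1)) t).ι hE
  let Z' : Finset (CohB1.genLocus (CohB1.tensorPow L (n₀ + 1)) t : Scheme.{u}) :=
    Z.attach.image (fun z => ⟨z.1, htZ z.1 z.2⟩)
  obtain ⟨σ, hσ⟩ := exists_section_of_finite _ hEW Z'
  obtain ⟨n', T, hT⟩ := exists_genLocus_eq_image_twist _ hA t E hE σ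
  have hTZ : ∀ z ∈ Z, z ∈ CohB1.genLocus _ T := by
    intro z hz
    rw [hT]
    refine ⟨⟨z, htZ z hz⟩, hσ _ ?_, rfl⟩
    exact Finset.mem_image.mpr ⟨⟨z, hz⟩, Finset.mem_attach _ _, rfl⟩
  haveI hAnqc : (CohB1.tensorPow (CohB1.tensorPow L (n₀ + 1)) n').IsQuasicoherent :=
    qc_of_isInvertible _ (isInvertible_tensorPow hA _)
  -- the section of `E ⊗ L^n`
  let T₂ : unitMod X ⟶ CohB1.tensorMod E (CohB1.tensorPow L (powIdx (n₀ + 1) (n' + 1))) :=
    (T ≫ (tensorAssoc E (CohB1.tensorPow (CohB1.tensorPow L (n₀ + 1)) n')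
      (CohB1.tensorPow L (n₀ + 1))).hom) ≫
      (tensorIso' (Iso.refl E) (powPowIso L (n₀ + 1) (n' + 1))).hom
  have hT₂ : CohB1.genLocus _ T₂ = CohB1.genLocus _ T := by
    rw [genLocus_comp_iso, genLocus_comp_iso]
  have hn : 0 < powIdx (n₀ + 1) (n' + 1) := powIdx_pos (Nat.succ_pos _) _
  refine ⟨powIdx (n₀ + 1) (n' + 1), hn, ?_⟩
  intro k hk
  obtain ⟨j, rfl⟩ : ∃ j, k = j + 1 := ⟨k - 1, by omega⟩
  rcases j with _ | j
  · rw [zero_add, one_mul]
    exact ⟨T₂, fun z hz => by rw [hT₂]; exact hTZ z hz⟩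
  · -- the second factor
    let t' : unitMod X ⟶ CohB1.tensorPow L (powIdx (n₀ + 1) (n' + 1)) := secMulPow L t (n' + 1)
    have ht' : CohB1.genLocus _ t' = CohB1.genLocus _ t := genLocus_secMulPow hL.1 t n'
    let u : unitMod X ⟶ CohB1.tensorPow L (powIdx (powIdx (n₀ + 1) (n' + 1)) (j + 1)) :=
      secMulPow L t' (j + 1)
    have hu : CohB1.genLocus _ u = CohB1.genLocus _ t := by
      rw [← ht']; exact genLocus_secMulPow hL.1 t' j
    have hEn : PicF.IsInvertible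
        (CohB1.tensorMod E (CohB1.tensorPow L (powIdx (n₀ + 1) (n' + 1)))) :=
      isInvertible_tensorMod hE (isInvertible_tensorPow hL.1 _)
    have hLj : PicF.IsInvertible
        (CohB1.tensorPow L (powIdx (powIdx (n₀ + 1) (n' + 1)) (j + 1))) :=
      isInvertible_tensorPow hL.1 _
    haveI : (CohB1.tensorPow L (powIdx (n₀ + 1) (n' + 1))).IsQuasicoherent :=
      qc_of_isInvertible _ (isInvertible_tensorPow hL.1 _)
    haveI : (CohB1.tensorPow L (powIdx (powIdx (n₀ + 1) (n' + 1)) (j + 1))).IsQuasicoherent :=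
      qc_of_isInvertible _ hLj
    let s₀ := SecTwist.tmulHom T₂ u
    have hs₀ : CohB1.genLocus _ s₀ = CohB1.genLocus _ T₂ ⊓ CohB1.genLocus _ u :=
      genLocus_tmulHom hEn hLj T₂ u
    let s₁ : unitMod X ⟶ CohB1.tensorMod E (CohB1.tensorPow L
        (powIdx (n₀ + 1) (n' + 1) + powIdx (powIdx (n₀ + 1) (n' + 1)) (j + 1))) :=
      (s₀ ≫ (tensorAssoc E (CohB1.tensorPow L (powIdx (n₀ + 1) (n' + 1)))
        (CohB1.tensorPow L (powIdx (powIdx (n₀ + 1) (n' + 1)) (j + 1)))).hom) ≫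
        (tensorIso' (Iso.refl E) (powAddIso L (powIdx (n₀ + 1) (n' + 1))
          (powIdx (powIdx (n₀ + 1) (n' + 1)) (j + 1)))).hom
    have hs₁ : CohB1.genLocus _ s₁ = CohB1.genLocus _ s₀ := by
      rw [genLocus_comp_iso, genLocus_comp_iso]
    have hidx : (j + 1 + 1) * powIdx (n₀ + 1) (n' + 1) =
        powIdx (n₀ + 1) (n' + 1) + powIdx (powIdx (n₀ + 1) (n' + 1)) (j + 1) := by
      rw [powIdx_eq (powIdx (n₀ + 1) (n' + 1)) (j + 1)]; ring
    rw [hidx]
    refine ⟨s₁, fun z hz => ?_⟩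
    rw [hs₁, hs₀, hT₂, hu]
    exact ⟨hTZ z hz, htZ z hz⟩

end Groth.Agent.H5.FinSec
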