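import Mathlib
import Groth.Agent.Lib.Helper5.FinSec.B
import Groth.Agent.Lib.Helper5.Curve6.Ell1
import Groth.Agent.Lib.Helper3.ZClosCover
import Groth.Agent.Lib.Lead.QC.NegTwist
import Groth.Agent.Lib.Lead.QC.ZeroScheme
import Groth.Agent.Lib.Lead.QC.IdealMod
import Groth.Agent.Lib.Lead.QC.TensorComm
import Groth.Agent.Lib.Lead.PD.ConnZeroInt

/-!
# Every invertible module is a difference of effective Cartier divisors avoiding a finite set
-/

set_option autoImplicit false
universe u
open CategoryTheory CategoryTheory.Limits AlgebraicGeometry TopologicalSpace Opposite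

namespace Groth.Agent.H5.FinSec

open Groth.Agent.LD Groth.Agent.LD.QC

variable {X : Scheme.{u}}

/-- A section of a module which generates it at every associated point of `X` is a
monomorphism. -/
theorem mono_of_assPoints_mem_genLocus [IsLocallyNoetherian X] (M : X.Modules)
    (s : unitMod X ⟶ M)
    (h : ∀ x : X, Curv2.IsAssPoint (unitMod X) x → x ∈ CohB1.genLocus M s) : Mono s := by
  haveI : (unitMod X).IsQuasicoherent := qc_of_isInvertible _ (isInvertible_unit X)
  apply Groth.Agent.H3.ZClosCover.mono_of_injective_basis s X.affineOpens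
    X.isBasis_affineOpens
  intro V hV r r' hrr'
  by_contra hne
  have hd : r - r' ≠ 0 := sub_ne_zero.mpr hne
  obtain ⟨x, hxV, hxass, hx⟩ := Groth.Agent.LD.NegTwist.exists_assPoint_of_ne_zero (unitMod X) hV (r - r') hd
  obtain ⟨U, hxU, hU⟩ := (mem_genLocus_iff M s x).mp (h x hxass)
  apply hx (U ⊓ V) inf_le_right ⟨hxU, hxV⟩
  have hb : IsBasisOver M (U ⊓ V) (SecTwist.val s (U ⊓ V)) := by
    have := hU.mono (inf_le_left : U ⊓ V ≤ U)
    rwa [val_res] at this
  have h0 : s.app V (r - r') = 0 := by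
    rw [map_sub, hrr', sub_self]
  have h1 : s.app (U ⊓ V) ((unitMod X).presheaf.map (homOfLE (inf_le_right : U ⊓ V ≤ V)).op
      (r - r')) = 0 := by
    rw [app_res, h0, map_zero]
  rw [Groth.Agent.H5.Curve6.app_eq_smul_val] at h1
  have h2 := (hb (U ⊓ V) le_rfl).1 (a₁ := (unitMod X).presheaf.map
    (homOfLE (inf_le_right : U ⊓ V ≤ V)).op (r - r')) (a₂ := 0)
  apply h2
  simp only [zero_smul]
  rw [← h1]
  congr 1
  exact (Groth.Agent.H5.Glue.mres_self M _)

/-- Uniqueness of inverses, in the shape needed below: if `(N ⊗ M) ⊗ P ≅ O` and `M ⊗ Q ≅ O` then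
`N ⊗ P ≅ Q`. -/
noncomputable def isoOfInverses (N M P Q : X.Modules) [N.IsQuasicoherent] [M.IsQuasicoherent]
    [P.IsQuasicoherent] [Q.IsQuasicoherent]
    (εA : CohB1.tensorMod (CohB1.tensorMod N M) P ≅ unitMod X)
    (εM : CohB1.tensorMod M Q ≅ unitMod X) : CohB1.tensorMod N P ≅ Q :=
  haveI : (CohB1.tensorMod N M).IsQuasicoherent := inferInstance
  (SecTwist.unitorR (CohB1.tensorMod N P)).symm ≪≫
    tensorIso' (Iso.refl (CohB1.tensorMod N P)) εM.symm ≪≫
    tensorMiddleFour N P M Q ≪≫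
    (tensorAssoc (CohB1.tensorMod N M) P Q).symm ≪≫
    tensorIso' εA (Iso.refl Q) ≪≫ unitorL Q

/-- **Every invertible module on a Noetherian scheme with an ample invertible module is a
difference of effective Cartier divisors whose supports avoid a given finite set.** -/
theorem exists_cartier_pair [IsNoetherian X] (L : X.Modules) (hL : CohB1.IsAmple L)
    (N : X.Modules) (hN : PicF.IsInvertible N) (E : Set X) (hE : E.Finite) :
    ∃ D D' : X.IdealSheafData, BlowUp.IsEffCartierIdeal D ∧ BlowUp.IsEffCartierIdeal D' ∧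
      Disjoint E (D.support : Set X) ∧ Disjoint E (D'.support : Set X) ∧
      Nonempty (CohB1.tensorMod N (ClSub.idealMod D) ≅ ClSub.idealMod D') := by
  classical
  haveI : X.IsSeparated := isSeparated_of_affine_genLocus L hL.1 hL.2.2
  haveI : CompactSpace X := hL.2.1
  haveI hLqc : L.IsQuasicoherent := qc_of_isInvertible L hL.1
  haveI hNqc : N.IsQuasicoherent := qc_of_isInvertible N hN
  haveI : (unitMod X).IsQuasicoherent := qc_of_isInvertible _ (isInvertible_unit X)
  have hass : {x : X | Curv2.IsAssPoint (unitMod X) x}.Finite :=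
    Groth.Agent.LD.NegTwist.finite_assPoints (unitMod X)
      (isFiniteType_of_isInvertible _ (isInvertible_unit X))
  let Z : Finset X := hE.toFinset ∪ hass.toFinset
  have hZE : ∀ x ∈ E, x ∈ Z := fun x hx => Finset.mem_union_left _ (hE.mem_toFinset.mpr hx)
  have hZA : ∀ x, Curv2.IsAssPoint (unitMod X) x → x ∈ Z :=
    fun x hx => Finset.mem_union_right _ (hass.mem_toFinset.mpr hx)
  -- the sections
  obtain ⟨n₁, hn₁, hsec⟩ := exists_twisted_sections L hL N hN Z
  obtain ⟨n₀, t, htZ, -, -⟩ :=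
    exists_affine_genLocus_finset L hL _ Z rfl ⊤ (fun _ _ => trivial)
  obtain ⟨j, rfl⟩ : ∃ j, n₁ = j + 1 := ⟨n₁ - 1, by omega⟩
  have hidx : (n₀ + 1) * (j + 1) = powIdx (n₀ + 1) (j + 1) := (powIdx_eq _ _).symm
  have hsec' := hsec (n₀ + 1) (by omega)
  rw [hidx] at hsec'
  obtain ⟨b, hb⟩ := hsec'
  let a : unitMod X ⟶ CohB1.tensorPow L (powIdx (n₀ + 1) (j + 1)) := secMulPow L t (j + 1)
  have ha : CohB1.genLocus _ a = CohB1.genLocus _ t := genLocus_secMulPow hL.1 t j
  have hM : PicF.IsInvertible (CohB1.tensorPow L (powIdx (n₀ + 1) (j + 1))) :=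
    isInvertible_tensorPow hL.1 _
  have hA : PicF.IsInvertible
      (CohB1.tensorMod N (CohB1.tensorPow L (powIdx (n₀ + 1) (j + 1)))) :=
    isInvertible_tensorMod hN hM
  haveI hMqc := qc_of_isInvertible _ hM
  haveI hAqc := qc_of_isInvertible _ hA
  obtain ⟨P, hP, ⟨εA⟩⟩ := Groth.Agent.H5.Glue.exists_inverse _ hA
  obtain ⟨Q, hQ, ⟨εM⟩⟩ := Groth.Agent.H5.Glue.exists_inverse _ hM
  haveI hPqc := qc_of_isInvertible _ hP
  haveI hQqc := qc_of_isInvertible _ hQ
  haveI : Mono b := mono_of_assPoints_mem_genLocus _ b (fun x hx => hb x (hZA x hx))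
  haveI : Mono a := mono_of_assPoints_mem_genLocus _ a
    (fun x hx => by rw [ha]; exact htZ x (hZA x hx))
  obtain ⟨φP⟩ := nonempty_iso_idealMod_zeroScheme _ P εA b hA hP
  obtain ⟨φQ⟩ := nonempty_iso_idealMod_zeroScheme _ Q εM a hM hQ
  refine ⟨PicF2.zeroScheme _ b, PicF2.zeroScheme _ a, ?_, ?_, ?_, ?_, ?_⟩
  · rw [← isInvertible_idealMod_iff]
    exact isInvertible_of_iso φP hP
  · rw [← isInvertible_idealMod_iff]
    exact isInvertible_of_iso φQ hQ
  · rw [support_zeroScheme _ hA b, Set.disjoint_compl_right_iff_subset]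
    exact fun x hx => hb x (hZE x hx)
  · rw [support_zeroScheme _ hM a, Set.disjoint_compl_right_iff_subset]
    intro x hx
    show x ∈ CohB1.genLocus _ a
    rw [ha]; exact htZ x (hZE x hx)
  · haveI : (ClSub.idealMod (PicF2.zeroScheme _ b)).IsQuasicoherent :=
      qc_of_isInvertible _ (isInvertible_of_iso φP hP)
    exact ⟨tensorIso' (Iso.refl N) φP.symm ≪≫ isoOfInverses N _ P Q εA εM ≪≫ φQ⟩

end Groth.Agent.H5.FinSec
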